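import Cfsg.Agent.Lib.Leech.SuzCent.Defs

/-! Kernel checks of the candidates. -/

set_option autoImplicit false
set_option maxRecDepth 100000

namespace Cfsg.Agent.Leech.SuzCent

theorem four_check : fourCand = candFour := by decide +kernel

theorem oct_check : Mathieu.maskList 8 = octT := by decide +kernel

theorem two_check0 : ((octT.drop 0).take 96).flatMap twoAt = candTwo0 := by decide +kernel
theorem two_check1 : ((octT.drop 96).take 96).flatMap twoAt = candTwo1 := by decide +kernel
theorem two_check2 : ((octT.drop 192).take 96).flatMap twoAt = candTwo2 := by decide +kernel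
theorem two_check3 : ((octT.drop 288).take 96).flatMap twoAt = candTwo3 := by decide +kernel
theorem two_check4 : ((octT.drop 384).take 96).flatMap twoAt = candTwo4 := by decide +kernel
theorem two_check5 : ((octT.drop 480).take 96).flatMap twoAt = candTwo5 := by decide +kernel
theorem two_check6 : ((octT.drop 576).take 96).flatMap twoAt = candTwo6 := by decide +kernel
theorem two_check7 : ((octT.drop 672).take 96).flatMap twoAt = candTwo7 := by decide +kernel

/-- A block of code words. -/
def wordBlock (lo : ℕ) : List ℕ := (List.range' lo 512).map (Mathieu.encC Mathieu.codeBasis)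

theorem odd_check0 : (wordBlock 0).flatMap oddAt = candOdd0 := by decide +kernel
theorem odd_check1 : (wordBlock 512).flatMap oddAt = candOdd1 := by decide +kernel
theorem odd_check2 : (wordBlock 1024).flatMap oddAt = candOdd2 := by decide +kernel
theorem odd_check3 : (wordBlock 1536).flatMap oddAt = candOdd3 := by decide +kernel
theorem odd_check4 : (wordBlock 2048).flatMap oddAt = candOdd4 := by decide +kernel
theorem odd_check5 : (wordBlock 2560).flatMap oddAt = candOdd5 := by decide +kernel
theorem odd_check6 : (wordBlock 3072).flatMap oddAt = candOdd6 := by decide +kernel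
theorem odd_check7 : (wordBlock 3584).flatMap oddAt = candOdd7 := by decide +kernel

end Cfsg.Agent.Leech.SuzCent
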