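import Cfsg.Agent.Lib.Leech.SuzCent.Defs

/-! Kernel checks of the candidate counts. -/

set_option autoImplicit false
set_option maxRecDepth 100000

namespace Cfsg.Agent.Leech.SuzCent

theorem count1 : candCount 1 = 891 := by decide +kernel
theorem count2 : candCount 2 = 256 := by decide +kernel
theorem count3 : candCount 3 = 5 := by decide +kernel
theorem count4 : candCount 4 = 3 := by decide +kernel
theorem count5 : candCount 5 = 2 := by decide +kernel

end Cfsg.Agent.Leech.SuzCent
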