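import Cfsg.Agent.Lib.Leech.SuzCent.Defs

/-! Kernel checks of the candidate counts. -/

set_option autoImplicit false
set_option maxRecDepth 100000

namespace Cfsg.Agent.Leech.SuzCent

theorem count6 : candCount 6 = 1 := by decide +kernel
theorem count7 : candCount 7 = 1 := by decide +kernel
theorem count8 : candCount 8 = 2 := by decide +kernel
theorem count9 : candCount 9 = 1 := by decide +kernel
theorem count10 : candCount 10 = 1 := by decide +kernel
theorem count11 : candCount 11 = 1 := by decide +kernel

end Cfsg.Agent.Leech.SuzCent
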