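import Cfsg.Agent.Lib.Leech.SuzCent.Elements
import Cfsg.Agent.Lib.Leech.SuzCent.Cands
import Cfsg.Agent.Lib.Leech.SuzCent.Levels
import Cfsg.Agent.Lib.Leech.SuzCent.LevelsHigh
import Cfsg.Agent.Lib.Leech.Census

/-!
# The centraliser of the element of order three

A chain of stabilisers of twelve minimal vectors bounds it by `6 · |Suz|`.
-/

set_option autoImplicit false
set_option maxRecDepth 20000

namespace Cfsg.Agent.Leech.SuzCent

open Cfsg Finset MulAction

/-- The centraliser. -/
def cenA : Subgroup Co0 := Subgroup.centralizer (Subgroup.zpowers aElt : Set Co0)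

theorem mem_cenA {g : Co0} : g ∈ cenA ↔ g * aElt = aElt * g := by
  rw [cenA, Subgroup.zpowers_eq_closure, Subgroup.centralizer_closure,
    Subgroup.mem_centralizer_singleton_iff]

theorem base_spec (j : Fin 12) : (bL j).length = 24 ∧ step (matT 7) (bL j) = aL j ∧
    InL (vecL (bL j)) ∧ dotZ (bL j) (bL j) = 32 ∧
    ((j : ℕ) ≠ 0 → inSig (dotZ (bL j) (bL 0)) (dotZ (bL j) (aL 0)) = true) := by
  have h := List.all_eq_true.1 base_check j (List.mem_range.2 j.2)
  simp only [Bool.and_eq_true, Bool.or_eq_true, beq_iff_eq] at h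
  obtain ⟨⟨⟨⟨h1, h2⟩, h3⟩, h4⟩, h5⟩ := h
  exact ⟨h1, h2, inL_of_inLB h3, h4, fun hj => h5.resolve_left hj⟩

/-- Base vector `j`. -/
def bP (j : Fin 12) : leechLattice := ⟨vecL (bL j), mem_leechLattice.2 (base_spec j).2.2.1⟩

theorem aElt_bP (j : Fin 12) : ((aElt • bP j : leechLattice) : GolayPt → ℤ) = vecL (aL j) := by
  have hs : sizeOK (matT 7) = true := by
    have := mat_ok7
    simp only [matOK, Bool.and_eq_true] at this
    exact this.1.1
  obtain ⟨hl, h2, -, -, -⟩ := base_spec j
  rw [aElt, el_smul (by norm_num)]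
  show mFun (matT 7) (vecL (bL j)) = _
  rw [← (step_spec _ hs hl).2, h2]

theorem aL_length (j : Fin 12) : (aL j).length = 24 := by
  have hs : sizeOK (matT 7) = true := by
    have := mat_ok7
    simp only [matOK, Bool.and_eq_true] at this
    exact this.1.1
  obtain ⟨hl, h2, -, -, -⟩ := base_spec j
  exact h2 ▸ (step_spec _ hs hl).1

theorem dotZ_spec : ∀ a b : List ℤ, a.length = b.length →
    dotZ a b = ∑ n ∈ range a.length, a.getD n 0 * b.getD n 0
  | [], [], _ => by simp [dotZ]
  | x :: a, y :: b, h => by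
    rw [dotZ, dotZ_spec a b (by simpa using h), List.length_cons, sum_range_succ']
    simp [add_comm]
  | [], _ :: _, h => by simp at h
  | _ :: _, [], h => by simp at h

theorem dot_vec {a b : List ℤ} (ha : a.length = 24) (hb : b.length = 24) :
    dotInt (vecL a) (vecL b) = dotZ a b := by
  rw [dotZ_spec a b (ha.trans hb.symm), ha, dotInt, ← Equiv.sum_comp Mathieu.ptEnc.symm]
  simp only [vecL, Equiv.apply_symm_apply]
  rw [Fin.sum_univ_eq_sum_range fun i => a.getD i 0 * b.getD i 0]

theorem valL_spec (t : MinCode) : (valL t).length = 24 ∧ vecL (valL t) = t.val := by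
  refine ⟨by simp [valL], funext fun p => ?_⟩
  simp only [vecL, MinCode.val, valL]
  rw [List.getD_eq_getElem _ _ (by simp), List.getElem_map, List.getElem_range]

theorem valL_dot (t : MinCode) {u : List ℤ} (hu : u.length = 24) :
    dotZ (valL t) u = ∑ n ∈ range 24, t.at n * u.getD n 0 := by
  rw [dotZ_spec _ _ ((valL_spec t).1.trans hu.symm), (valL_spec t).1]
  refine sum_congr rfl fun n hn => ?_
  have hn' := Finset.mem_range.1 hn
  rw [valL, List.getD_eq_getElem _ _ (by simpa using hn'), List.getElem_map, List.getElem_range]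

/-! ### Completeness of the candidates -/

theorem tail_getD (u : List ℤ) (i : ℕ) : u.tail.getD i 0 = u.getD (i + 1) 0 := by
  cases u <;> simp

theorem sw_spec : ∀ (n b : ℕ) (u v : List ℤ) (s : ℕ), s ∈ Mathieu.subMasks n b →
    (s, ∑ i ∈ range n, (if b.testBit i then 2 * sgn (s.testBit i) else 0) * u.getD i 0,
      ∑ i ∈ range n, (if b.testBit i then 2 * sgn (s.testBit i) else 0) * v.getD i 0) ∈ sw n b u v
  | 0, b, u, v, s, hs => by
    simp only [Mathieu.subMasks, List.mem_singleton] at hs
    simp [sw, hs]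
  | n + 1, b, u, v, s, hs => by
    rw [Mathieu.subMasks, List.mem_flatMap] at hs
    obtain ⟨r, hr, hs⟩ := hs
    rw [sw, List.mem_flatMap]
    refine ⟨_, sw_spec n (b / 2) u.tail v.tail r hr, ?_⟩
    have hb : b.testBit 0 = decide (b % 2 = 1) := Nat.testBit_zero b
    have hsum : ∀ (w : List ℤ) (s : ℕ), s / 2 = r →
        ∑ i ∈ range (n + 1), (if b.testBit i then 2 * sgn (s.testBit i) else 0) * w.getD i 0 =
          ∑ i ∈ range n, (if (b / 2).testBit i then 2 * sgn (r.testBit i) else 0) * w.tail.getD i 0 +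
            (if b.testBit 0 then 2 * sgn (s.testBit 0) else 0) * w.getD 0 0 := by
      intro w s h
      rw [sum_range_succ']
      simp only [Nat.testBit_succ, h, tail_getD]
    have hd : ∀ w : List ℤ, w.getD 0 0 = w.headD 0 := fun w => by cases w <;> rfl
    by_cases h1 : b % 2 = 1
    · simp only [h1, beq_self_eq_true, if_true, List.mem_cons, List.not_mem_nil, or_false] at hs ⊢
      rcases hs with rfl | rfl
      · left
        rw [hsum u _ (by omega), hsum v _ (by omega), hd, hd]
        simp [hb, h1, sgn]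
      · right
        rw [hsum u _ (by omega), hsum v _ (by omega), hd, hd]
        simp [hb, h1, sgn, Nat.testBit_zero, sub_eq_add_neg]
    · have h0 : b % 2 = 0 := by omega
      simp only [h0, show ((0 : ℕ) == 1) = false from rfl, Bool.false_eq_true, if_false,
        List.mem_cons, List.not_mem_nil, or_false] at hs ⊢
      subst hs
      rw [hsum u _ (by omega), hsum v _ (by omega)]
      simp [hb, h0]

theorem dv_spec : ∀ (u : List ℤ) (c : ℕ),
    dv c u = ∑ i ∈ range u.length, sgn (c.testBit i) * u.getD i 0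
  | [], c => by simp [dv]
  | x :: u, c => by
    rw [dv, dv_spec u, List.length_cons, sum_range_succ']
    simp only [Nat.testBit_succ, List.getD_cons_succ, List.getD_cons_zero, Nat.testBit_zero, sgn,
      beq_iff_eq, decide_eq_true_eq]
    split <;> ring

theorem odd_dot (k c : ℕ) (hk : k < 24) {u : List ℤ} (hu : u.length = 24) :
    dotZ (valL (.odd k c)) u = dv c u - 4 * sgn (c.testBit k) * u.getD k 0 := by
  rw [valL_dot _ hu, dv_spec, hu]
  have : ∀ n, (MinCode.odd k c).at n * u.getD n 0 = sgn (c.testBit n) * u.getD n 0 -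
      if n = k then 4 * sgn (c.testBit n) * u.getD n 0 else 0 := fun n => by
    simp only [MinCode.at]
    split <;> ring
  simp only [this, sum_sub_distrib, sum_ite_eq', Finset.mem_range, hk, if_true]

theorem dTwo_spec : ∀ (u : List ℤ) (m s : ℕ),
    dTwo m s u = ∑ i ∈ range u.length, (MinCode.two m s).at i * u.getD i 0
  | [], m, s => by simp [dTwo]
  | x :: u, m, s => by
    rw [dTwo, dTwo_spec u, List.length_cons, sum_range_succ']
    simp only [MinCode.at, Nat.testBit_succ, List.getD_cons_succ, List.getD_cons_zero, Nat.testBit_zero,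
      sgn, beq_iff_eq, decide_eq_true_eq]
    rcases Nat.mod_two_eq_zero_or_one m with h | h <;>
      rcases Nat.mod_two_eq_zero_or_one s with h' | h' <;> simp [h, h'] <;> ring

theorem dotC_eq (t : MinCode) {u : List ℤ} (hu : u.length = 24) : dotC t u = dotZ (valL t) u := by
  cases t with
  | four i j a b => rfl
  | two m s => rw [valL_dot _ hu, dotC, dTwo_spec, hu]
  | odd k c =>
    rcases lt_or_ge k 24 with hk | hk
    · rw [dotC, odd_dot k c hk hu]
    · rw [valL_dot _ hu, dotC, dv_spec, hu, List.getD_eq_default _ _ (by omega), mul_zero, sub_zero]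
      refine sum_congr rfl fun n hn => ?_
      have hn' : n ≠ k := by have := Finset.mem_range.1 hn; omega
      simp [MinCode.at, hn']

theorem bL0_sum (f : ℕ → ℤ) : ∑ n ∈ range 24, f n * (bL 0).getD n 0 = 4 * f 0 + 4 * f 1 := by
  have h : ∀ n < 24, (bL 0).getD n 0 = if n < 2 then 4 else 0 := by decide +kernel
  rw [sum_congr rfl fun n hn => by rw [h n (Finset.mem_range.1 hn)]]
  simp [Finset.sum_range_succ]
  ring

theorem two_mod {m s : ℕ}
    (h : ∑ n ∈ range 24, (if m.testBit n then 2 * sgn (s.testBit n) else 0) * (bL 0).getD n 0 = 16) :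
    m % 4 = 3 := by
  rw [bL0_sum] at h
  have e0 : m.testBit 0 = decide (m % 2 = 1) := Nat.testBit_zero m
  have e1 : m.testBit 1 = decide (m / 2 % 2 = 1) := by rw [Nat.testBit_succ, Nat.testBit_zero]
  simp only [e0, e1, sgn] at h
  split_ifs at h with a b c d <;> simp_all <;> omega

theorem odd_mod {k c : ℕ} (hk : k < 24)
    (h : dv c (bL 0) - 4 * sgn (c.testBit k) * (bL 0).getD k 0 = 16) :
    k < 2 ∧ (c % 4 = 1 ∨ c % 4 = 2) := by
  have hb : (bL 0).length = 24 := (base_spec 0).1
  have hg : ∀ n < 24, (bL 0).getD n 0 = if n < 2 then 4 else 0 := by decide +kernel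
  rw [dv_spec, hb, bL0_sum, hg k hk] at h
  have e0 : c.testBit 0 = decide (c % 2 = 1) := Nat.testBit_zero c
  have e1 : c.testBit 1 = decide (c / 2 % 2 = 1) := by rw [Nat.testBit_succ, Nat.testBit_zero]
  by_cases hk2 : k < 2
  · refine ⟨hk2, ?_⟩
    interval_cases k <;> simp only [e0, e1, sgn] at h <;> split_ifs at h <;> simp_all <;> omega
  · exfalso
    simp only [if_neg hk2, mul_zero, sub_zero, sgn] at h
    split_ifs at h <;> norm_num at h

theorem oct_split : (List.range 8).flatMap (fun i => (octT.drop (96 * i)).take 96) = octT := by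
  decide +kernel

theorem mem_candAll {t : MinCode} (ht : t ∈ minList)
    (hs : inSig (dotZ (valL t) (bL 0)) (dotZ (valL t) (aL 0)) = true) : t ∈ candAll := by
  have hb : (bL 0).length = 24 := (base_spec 0).1
  have ha : (aL 0).length = 24 := aL_length 0
  rw [minList, List.mem_append, List.mem_append] at ht
  simp only [candAll, List.mem_append]
  rcases ht with (h | h) | h
  · left; left
    rw [← four_check, fourCand]
    exact List.mem_filter.2 ⟨h, hs⟩
  · simp only [minTwo, List.mem_flatMap, List.mem_map, List.mem_filter] at h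
    obtain ⟨m, hm, s, ⟨hsub, hpar⟩, rfl⟩ := h
    rw [oct_check, ← oct_split, List.mem_flatMap] at hm
    obtain ⟨i, hi, hmi⟩ := hm
    have hv : ∀ u : List ℤ, u.length = 24 → dotZ (valL (.two m s)) u =
        ∑ n ∈ range 24, (if m.testBit n then 2 * sgn (s.testBit n) else 0) * u.getD n 0 := fun u hu => by
      rw [valL_dot _ hu]; rfl
    have hin : MinCode.two m s ∈ ((octT.drop (96 * i)).take 96).flatMap twoAt := by
      refine List.mem_flatMap.2 ⟨m, hmi, ?_⟩
      rw [hv _ hb, hv _ ha] at hs
      have h16 := hs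
      simp only [inSig, Bool.and_eq_true, beq_iff_eq] at h16
      rw [twoAt, two_mod h16.1, if_pos (show (3 == 3) = true from rfl), List.mem_map]
      exact ⟨_, List.mem_filter.2 ⟨List.mem_filter.2 ⟨sw_spec 24 m (bL 0) (aL 0) s hsub, hs⟩, hpar⟩, rfl⟩
    left; right
    have hi' := List.mem_range.1 hi
    interval_cases i
    · rw [two_check0] at hin; simp [hin]
    · rw [two_check1] at hin; simp [hin]
    · rw [two_check2] at hin; simp [hin]
    · rw [two_check3] at hin; simp [hin]
    · rw [two_check4] at hin; simp [hin]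
    · rw [two_check5] at hin; simp [hin]
    · rw [two_check6] at hin; simp [hin]
    · rw [two_check7] at hin; simp [hin]
  · simp only [minOdd, List.mem_flatMap, List.mem_map, List.mem_range] at h
    obtain ⟨k, hk, c, hc, rfl⟩ := h
    simp only [Mathieu.codeList, List.mem_map, List.mem_range] at hc
    obtain ⟨x, hx, rfl⟩ := hc
    have hin : ∀ lo, lo ≤ x → x < lo + 512 →
        MinCode.odd k (Mathieu.encC Mathieu.codeBasis x) ∈ (wordBlock lo).flatMap oddAt := by
      intro lo h1 h2
      refine List.mem_flatMap.2 ⟨_, List.mem_map.2 ⟨x, List.mem_range'_1.2 ⟨h1, h2⟩, rfl⟩, ?_⟩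
      rw [odd_dot k _ hk hb, odd_dot k _ hk ha] at hs
      have h16 := hs
      simp only [inSig, Bool.and_eq_true, beq_iff_eq] at h16
      obtain ⟨hk2, hc4⟩ := odd_mod hk h16.1
      rw [oddAt, if_pos (by simpa using hc4), oddSel, List.mem_map]
      exact ⟨k, List.mem_filter.2 ⟨List.mem_range.2 hk2, hs⟩, rfl⟩
    right
    rcases (show x < 512 ∨ (512 ≤ x ∧ x < 1024) ∨ (1024 ≤ x ∧ x < 1536) ∨ (1536 ≤ x ∧ x < 2048) ∨
      (2048 ≤ x ∧ x < 2560) ∨ (2560 ≤ x ∧ x < 3072) ∨ (3072 ≤ x ∧ x < 3584) ∨
      (3584 ≤ x ∧ x < 4096) by omega) with h | ⟨a, b⟩ | ⟨a, b⟩ | ⟨a, b⟩ | ⟨a, b⟩ | ⟨a, b⟩ | ⟨a, b⟩ | ⟨a, b⟩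
    · have := hin 0 (Nat.zero_le _) (by omega); rw [odd_check0] at this; simp [this]
    · have := hin 512 a (by omega); rw [odd_check1] at this; simp [this]
    · have := hin 1024 a (by omega); rw [odd_check2] at this; simp [this]
    · have := hin 1536 a (by omega); rw [odd_check3] at this; simp [this]
    · have := hin 2048 a (by omega); rw [odd_check4] at this; simp [this]
    · have := hin 2560 a (by omega); rw [odd_check5] at this; simp [this]
    · have := hin 3072 a (by omega); rw [odd_check6] at this; simp [this]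
    · have := hin 3584 a (by omega); rw [odd_check7] at this; simp [this]

/-! ### The chain -/

/-- The chain of stabilisers along the base. -/
def chn : ℕ → Subgroup Co0
  | 0 => cenA
  | j + 1 => chn j ⊓ stabilizer Co0 (bP (Fin.ofNat 12 j))

theorem chn_le : ∀ j, chn j ≤ cenA
  | 0 => le_rfl
  | j + 1 => inf_le_left.trans (chn_le j)

theorem chn_fix : ∀ {j : ℕ}, j ≤ 12 → ∀ {g : Co0}, g ∈ chn j → ∀ l : Fin 12, (l : ℕ) < j →
    g • bP l = bP l
  | 0, _, _, _, l, hl => absurd hl (Nat.not_lt_zero _)
  | j + 1, hj, g, hg, l, hl => by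
    rcases Nat.lt_succ_iff_lt_or_eq.1 hl with h | h
    · exact chn_fix (Nat.le_of_succ_le hj) hg.1 l h
    · have : Fin.ofNat 12 j = l := Fin.ext (by simp [← h, Nat.mod_eq_of_lt l.2])
      exact this ▸ hg.2

theorem fix_aP {g : Co0} (hg : g ∈ cenA) {l : Fin 12} (h : g • bP l = bP l) :
    g • (aElt • bP l) = aElt • bP l := by
  rw [← mul_smul, mem_cenA.1 hg, mul_smul, h]

theorem bP_norm (j : Fin 12) : sqNorm (bP j : GolayPt → ℤ) = 32 := by
  rw [← dot_self]
  show dotInt (vecL (bL j)) (vecL (bL j)) = 32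
  rw [dot_vec (base_spec j).1 (base_spec j).1, (base_spec j).2.2.2.1]

theorem image_spec {j : Fin 12} (hj : (j : ℕ) ≠ 0) {g : Co0} (hg : g ∈ chn j) :
    ∃ t ∈ candAll.filter (fun t => consOK j t),
      t.val = ((g • bP j : leechLattice) : GolayPt → ℤ) := by
  obtain ⟨t, ht, e⟩ := exists_code (mem_leechLattice.1 (g • bP j).2) ((co0_norm g _).trans (bP_norm j))
  have hC := chn_le _ hg
  have key : ∀ l : Fin 12, (l : ℕ) < j → dotZ (valL t) (bL l) = dotZ (bL j) (bL l) ∧
      dotZ (valL t) (aL l) = dotZ (bL j) (aL l) := by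
    intro l hl
    have hf := chn_fix j.2.le hg l hl
    constructor
    · rw [← dot_vec (valL_spec t).1 (base_spec l).1, ← dot_vec (base_spec j).1 (base_spec l).1,
        (valL_spec t).2, e, show vecL (bL l) = (bP l : GolayPt → ℤ) from rfl]
      conv_lhs => rw [← hf]
      rw [co0_dot]
      rfl
    · rw [← dot_vec (valL_spec t).1 (aL_length l), ← dot_vec (base_spec j).1 (aL_length l),
        (valL_spec t).2, e, ← aElt_bP l]
      conv_lhs => rw [← fix_aP hC hf]
      rw [co0_dot]
      rfl
  refine ⟨t, List.mem_filter.2 ⟨?_, ?_⟩, e⟩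
  · obtain ⟨k1, k2⟩ := key 0 (Nat.pos_of_ne_zero hj)
    refine mem_candAll ht ?_
    rw [show dotZ (valL t) (bL 0) = dotZ (bL j) (bL 0) from k1,
      show dotZ (valL t) (aL 0) = dotZ (bL j) (aL 0) from k2]
    exact (base_spec j).2.2.2.2 hj
  · rw [consOK, List.all_eq_true]
    intro l hl
    rw [List.mem_reverse] at hl
    obtain ⟨k1, k2⟩ := key ⟨l, (List.mem_range.1 hl).trans j.2⟩ (List.mem_range.1 hl)
    simp only [Bool.and_eq_true, beq_iff_eq]
    have hl' : l < 12 := (List.mem_range.1 hl).trans j.2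
    rw [dotC_eq t (base_spec ⟨l, hl'⟩).1, dotC_eq t (aL_length ⟨l, hl'⟩)]
    exact ⟨k1, k2⟩

theorem card_le_images (H : Subgroup Co0) (v : leechLattice) (L : List MinCode)
    (h : ∀ g ∈ H, ∃ t ∈ L, t.val = ((g • v : leechLattice) : GolayPt → ℤ)) :
    Nat.card H ≤ L.length * Nat.card ↥(H ⊓ stabilizer Co0 v) := by
  classical
  have hst : Nat.card (stabilizer H v) = Nat.card ↥(H ⊓ stabilizer Co0 v) := by
    rw [show stabilizer H v = (stabilizer Co0 v).subgroupOf H from rfl]
    rw [← Subgroup.inf_subgroupOf_left]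
    exact Nat.card_congr (Subgroup.subgroupOfEquivOfLe inf_le_left).toEquiv
  rw [← (stabilizer H v).index_mul_card, hst, index_stabilizer]
  refine Nat.mul_le_mul_right _ (le_trans ?_ ((List.toFinset_card_le _).trans
    (le_of_eq (List.length_map MinCode.val (as := L)))))
  rw [← Set.ncard_coe_finset]
  refine Set.ncard_le_ncard_of_injOn (fun w : leechLattice => (w : GolayPt → ℤ)) ?_ ?_
    (Finset.finite_toSet _)
  · rintro w ⟨g, rfl⟩
    obtain ⟨t, ht, e⟩ := h g g.2
    simp only [List.coe_toFinset, Set.mem_ofPred_eq, List.mem_map]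
    exact ⟨t, ht, e⟩
  · exact fun _ _ _ _ e => Subtype.ext e

theorem chn_step_zero : Nat.card (chn 0) ≤ 196560 * Nat.card (chn 1) :=
  by
  have h := card_le_images (chn 0) (bP (Fin.ofNat 12 0)) minList fun g _ =>
    exists_code (mem_leechLattice.1 (g • bP (Fin.ofNat 12 0)).2) ((co0_norm g _).trans (bP_norm _))
  rw [length_minList] at h
  exact h

theorem chn_step (j : Fin 12) (hj : (j : ℕ) ≠ 0) :
    Nat.card (chn j) ≤ candCount j * Nat.card (chn (j + 1)) := by
  have e : Fin.ofNat 12 j = j := Fin.ext (by simp)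
  have h := card_le_images (chn j) (bP (Fin.ofNat 12 j)) _ fun g hg => e ▸ image_spec hj hg
  rw [e] at h
  show Nat.card (chn j) ≤ candCount j * Nat.card ↥(chn j ⊓ stabilizer Co0 (bP (Fin.ofNat 12 j)))
  rw [e]
  exact h

theorem chn_twelve : chn 12 = ⊥ := by
  refine (Subgroup.eq_bot_iff_forall _).2 fun g hg => co0_ext _ _ fun p => ?_
  obtain ⟨hD, hchk, hlen, hrl⟩ := span_check
  let oP : ℕ → leechLattice := fun a =>
    if a % 2 == 0 then bP (Fin.ofNat 12 (a / 2)) else aElt • bP (Fin.ofNat 12 (a / 2))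
  have hval : ∀ a < 24, (oP a : GolayPt → ℤ) = vecL (orbL a) ∧ g • oP a = oP a := by
    intro a ha
    have hm : ((Fin.ofNat 12 (a / 2) : Fin 12) : ℕ) = a / 2 := by
      simp [Nat.mod_eq_of_lt (show a / 2 < 12 by omega)]
    have hf := chn_fix le_rfl hg (Fin.ofNat 12 (a / 2)) (by omega)
    by_cases h : a % 2 = 0
    · simp only [oP, orbL, h, beq_self_eq_true, if_true]
      exact ⟨show vecL (bL _) = _ by rw [hm], hf⟩
    · simp only [oP, orbL, beq_iff_eq, h, if_false]
      refine ⟨?_, fix_aP (chn_le _ hg) hf⟩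
      rw [aElt_bP, hm]
  set n := (Mathieu.ptEnc p).val
  have hn : n < spanC.length := hlen ▸ (Mathieu.ptEnc p).isLt
  set cs := spanC.getD n []
  have hcs : cs.length = 24 := by
    have := List.all_eq_true.1 hrl cs (by rw [show cs = spanC[n] from List.getD_eq_getElem _ _ hn];
                                          exact List.getElem_mem _)
    simpa using this
  have hrows : ∀ r ∈ (List.range 24).map orbL, r.length = 24 := by
    intro r hr
    obtain ⟨a, ha, rfl⟩ := List.mem_map.1 hr
    have ha' := List.mem_range.1 ha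
    unfold orbL
    split
    · exact (base_spec ⟨a / 2, by omega⟩).1
    · exact aL_length ⟨a / 2, by omega⟩
  have key : spanD • eight p = ∑ a ∈ range 24, cs.getD a 0 • oP a := by
    refine Subtype.ext (funext fun q => ?_)
    obtain ⟨-, h2⟩ := lin_spec cs _ (by rw [hcs]; simp) hrows
    have h3 := h2 (Mathieu.ptEnc q).val
    rw [beq_iff_eq.1 (List.all_eq_true.1 hchk n (List.mem_range.2 (hlen ▸ hn))), hcs] at h3
    rw [AddSubgroupClass.coe_zsmul, Pi.smul_apply, eight_val, AddSubgroup.val_finsetSum, Finset.sum_apply]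
    refine Eq.trans ?_ (h3.trans (sum_congr rfl fun a ha => ?_))
    · rw [List.getD_eq_getElem _ _ (by simp), List.getElem_map, List.getElem_range]
      simp only [n, Pi.single_apply, beq_iff_eq, ← Fin.ext_iff, Equiv.apply_eq_iff_eq, smul_eq_mul]
      by_cases hpq : p = q
      · subst hpq; simp [mul_comm]
      · rw [if_neg hpq, if_neg (Ne.symm hpq)]; simp
    · have ha' := Finset.mem_range.1 ha
      rw [AddSubgroupClass.coe_zsmul, Pi.smul_apply, (hval a ha').1, smul_eq_mul,
        List.getD_eq_getElem ((List.range 24).map orbL) _ (by simpa using ha'), List.getElem_map,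
        List.getElem_range]
      rfl
  have hfix : g • (spanD • eight p) = spanD • eight p := by
    rw [key]
    refine (map_sum (actHom g) _ _).trans (sum_congr rfl fun a ha => ?_)
    rw [map_zsmul]
    exact congrArg _ (hval a (Finset.mem_range.1 ha)).2
  rw [co0_zsmul] at hfix
  rw [one_smul]
  refine Subtype.ext (funext fun q => mul_left_cancel₀ hD ?_)
  have := congrArg (fun w : leechLattice => (w : GolayPt → ℤ) q) hfix
  simpa only [AddSubgroupClass.coe_zsmul, Pi.smul_apply, smul_eq_mul] using this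

theorem chn_step_count {j c : ℕ} (hc : candCount j = c) (h0 : j ≠ 0) (hj : j < 12) :
    Nat.card (chn j) ≤ c * Nat.card (chn (j + 1)) := by
  rw [← hc]
  exact chn_step ⟨j, hj⟩ h0

theorem card_cenA_le : Nat.card cenA ≤ 2690072985600 := by
  have h0 := chn_step_zero
  have h1 : Nat.card (chn 1) ≤ 891 * Nat.card (chn 2) :=
    chn_step_count count1 (by norm_num) (by norm_num)
  have h2 : Nat.card (chn 2) ≤ 256 * Nat.card (chn 3) :=
    chn_step_count count2 (by norm_num) (by norm_num)
  have h3 : Nat.card (chn 3) ≤ 5 * Nat.card (chn 4) :=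
    chn_step_count count3 (by norm_num) (by norm_num)
  have h4 : Nat.card (chn 4) ≤ 3 * Nat.card (chn 5) :=
    chn_step_count count4 (by norm_num) (by norm_num)
  have h5 : Nat.card (chn 5) ≤ 2 * Nat.card (chn 6) :=
    chn_step_count count5 (by norm_num) (by norm_num)
  have h6 : Nat.card (chn 6) ≤ 1 * Nat.card (chn 7) :=
    chn_step_count count6 (by norm_num) (by norm_num)
  have h7 : Nat.card (chn 7) ≤ 1 * Nat.card (chn 8) :=
    chn_step_count count7 (by norm_num) (by norm_num)
  have h8 : Nat.card (chn 8) ≤ 2 * Nat.card (chn 9) :=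
    chn_step_count count8 (by norm_num) (by norm_num)
  have h9 : Nat.card (chn 9) ≤ 1 * Nat.card (chn 10) :=
    chn_step_count count9 (by norm_num) (by norm_num)
  have h10 : Nat.card (chn 10) ≤ 1 * Nat.card (chn 11) :=
    chn_step_count count10 (by norm_num) (by norm_num)
  have h11 : Nat.card (chn 11) ≤ 1 * Nat.card (chn 12) :=
    chn_step_count count11 (by norm_num) (by norm_num)
  have h12 : Nat.card (chn 12) = 1 := by rw [chn_twelve, Subgroup.card_bot]
  show Nat.card (chn 0) ≤ _
  omega

end Cfsg.Agent.Leech.SuzCent
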