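import Cfsg.Agent.Lib.Leech.SuzCent.Defs

/-! Further kernel checks. -/

set_option autoImplicit false
set_option maxRecDepth 100000

namespace Cfsg.Agent.Leech.SuzCent

theorem comm_check : ((List.range 7).all fun g =>
    wordRows [g, 7] idRows == wordRows [7, g] idRows) = true := by decide +kernel

theorem order_check : wordRows [7, 7, 7] idRows = idRows ∧ wordRows [7] idRows ≠ idRows ∧
    wordRows [0, 1] idRows ≠ wordRows [1, 0] idRows := by decide +kernel

theorem square_check : ((List.range 7).all fun g =>
    (List.range 6).any fun s => wordRows [g, g] idRows == scalRows s) = true := by decide +kernel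

theorem base_check : ((List.range 12).all fun j =>
    (bL j).length == 24 && step (matT 7) (bL j) == aL j && inLB (vecL (bL j)) &&
      dotZ (bL j) (bL j) == 32 &&
      (j == 0 || inSig (dotZ (bL j) (bL 0)) (dotZ (bL j) (aL 0)))) = true := by decide +kernel

theorem span_check : spanD ≠ 0 ∧ ((List.range 24).all fun n =>
    lin (spanC.getD n []) ((List.range 24).map orbL) ==
      (List.range 24).map fun k => if n == k then 8 * spanD else 0) = true ∧
    spanC.length = 24 ∧ (spanC.all fun r => r.length == 24) = true := by decide +kernel

end Cfsg.Agent.Leech.SuzCent
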