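import Cfsg.Agent.Lib.Leech.SuzCent.Mat
import Cfsg.Agent.Lib.Leech.SuzCent.Data

/-!
# Computable definitions for the centraliser of an element of order three of `Co0`
-/

set_option autoImplicit false

namespace Cfsg.Agent.Leech.SuzCent

open Cfsg

/-- Matrix number `g`: seven generators, then the element of order three. -/
def matT (g : ℕ) : List (List ℤ) := [mat0, mat1, mat2, mat3, mat4, mat5, mat6, mat7].getD g []

/-- The rows `8 e_n`. -/
def idRows : List (List ℤ) :=
  (List.range 24).map fun n => (List.range 24).map fun k => if n == k then 8 else 0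

/-- The rows of a word, the first letter acting first. -/
def wordRows : List ℕ → List (List ℤ) → List (List ℤ)
  | [], rows => rows
  | g :: w, rows => wordRows w (rows.map (step (matT g)))

/-- The rows of a scalar. -/
def scalRows (s : ℕ) : List (List ℤ) :=
  (wordRows (List.replicate (s % 3) 7) idRows).map fun r => if s < 3 then r else r.map (- ·)

/-- Base vector `j`. -/
def bL (j : ℕ) : List ℤ := baseT.getD j []

/-- Its image. -/
def aL (j : ℕ) : List ℤ := imgT.getD j []

/-- The two classes of candidates. -/
def inSig (a b : ℤ) : Bool := a == 16 && (b == -16 || b == -8)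

/-- The dot product of two lists. -/
def dotZ : List ℤ → List ℤ → ℤ
  | x :: a, y :: b => x * y + dotZ a b
  | _, _ => 0

/-- The coordinates of a code. -/
def valL (t : MinCode) : List ℤ := (List.range 24).map t.at

/-- The candidates with two fours. -/
def fourCand : List MinCode := minFour.filter fun t => inSig (dotZ (valL t) (bL 0)) (dotZ (valL t) (aL 0))

/-- Sign masks below `b` with two dot products. -/
def sw : ℕ → ℕ → List ℤ → List ℤ → List (ℕ × ℤ × ℤ)
  | 0, _, _, _ => [(0, 0, 0)]
  | n + 1, b, u, v => (sw n (b / 2) u.tail v.tail).flatMap fun r =>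
      if b % 2 == 1 then
        [(2 * r.1, r.2.1 + 2 * u.headD 0, r.2.2 + 2 * v.headD 0),
          (2 * r.1 + 1, r.2.1 - 2 * u.headD 0, r.2.2 - 2 * v.headD 0)]
      else [(2 * r.1, r.2.1, r.2.2)]

/-- The candidates on one octad. -/
def twoAt (m : ℕ) : List MinCode :=
  if m % 4 == 3 then
    (((sw 24 m (bL 0) (aL 0)).filter fun r => inSig r.2.1 r.2.2).filter
      fun r => Mathieu.popc 24 r.1 % 2 == 0).map fun r => .two m r.1
  else []

/-- The signed sum of a list along a word. -/
def dv : ℕ → List ℤ → ℤ
  | c, x :: l => (if c % 2 == 1 then -x else x) + dv (c / 2) l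
  | _, [] => 0

/-- The odd candidates of one word with given signed sums. -/
def oddSel (c : ℕ) (D E : ℤ) : List MinCode :=
  ((List.range 2).filter fun k =>
    inSig (D - 4 * sgn (c.testBit k) * (bL 0).getD k 0) (E - 4 * sgn (c.testBit k) * (aL 0).getD k 0)).map
    fun k => .odd k c

/-- The odd candidates of one word. -/
def oddAt (c : ℕ) : List MinCode :=
  if c % 4 == 1 || c % 4 == 2 then oddSel c (dv c (bL 0)) (dv c (aL 0)) else []

/-- All candidates of the two classes. -/
def candAll : List MinCode :=
  candFour ++ (candTwo0 ++ candTwo1 ++ candTwo2 ++ candTwo3 ++ candTwo4 ++ candTwo5 ++ candTwo6 ++ candTwo7) ++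
    (candOdd0 ++ candOdd1 ++ candOdd2 ++ candOdd3 ++ candOdd4 ++ candOdd5 ++ candOdd6 ++ candOdd7)

/-- The dot product of a mask pair with a list. -/
def dTwo : ℕ → ℕ → List ℤ → ℤ
  | m, s, x :: l => (if m % 2 == 1 then (if s % 2 == 1 then -2 * x else 2 * x) else 0) + dTwo (m / 2) (s / 2) l
  | _, _, [] => 0

/-- The dot product of a code with a list. -/
def dotC : MinCode → List ℤ → ℤ
  | .two m s, u => dTwo m s u
  | .odd k c, u => dv c u - 4 * sgn (c.testBit k) * u.getD k 0
  | t, u => dotZ (valL t) u

/-- The constraints from the base vectors `l, …, j - 1` on a candidate for base vector `j`. -/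
def consOK (j : ℕ) (t : MinCode) : Bool :=
  (List.range j).reverse.all fun l => dotC t (bL l) == dotZ (bL j) (bL l) && dotC t (aL l) == dotZ (bL j) (aL l)

/-- The number of candidates for base vector `j`. -/
def candCount (j : ℕ) : ℕ := (candAll.filter fun t => consOK j t).length

/-- The scalar multiple of a vector `8 e_n` by the spanning vectors. -/
def orbL (a : ℕ) : List ℤ := if a % 2 == 0 then bL (a / 2) else aL (a / 2)

end Cfsg.Agent.Leech.SuzCent
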