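import Cfsg.Agent.Lib.Leech.SuzCent.Defs

/-! Kernel checks of the matrices. -/

set_option autoImplicit false
set_option maxRecDepth 100000

namespace Cfsg.Agent.Leech.SuzCent

theorem mat_ok0 : matOK (matT 0) = true := by decide +kernel
theorem mat_ok1 : matOK (matT 1) = true := by decide +kernel
theorem mat_ok2 : matOK (matT 2) = true := by decide +kernel
theorem mat_ok3 : matOK (matT 3) = true := by decide +kernel
theorem mat_ok4 : matOK (matT 4) = true := by decide +kernel
theorem mat_ok5 : matOK (matT 5) = true := by decide +kernel
theorem mat_ok6 : matOK (matT 6) = true := by decide +kernel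
theorem mat_ok7 : matOK (matT 7) = true := by decide +kernel

end Cfsg.Agent.Leech.SuzCent
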