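import Cfsg.Agent.Lib.Leech.SuzCent.Fast

/-! Kernel checks of the relators. -/

set_option autoImplicit false
set_option maxRecDepth 100000

namespace Cfsg.Agent.Leech.SuzCent

theorem fit_ok : ((List.range 7).all fun g => fitOK g) = true := by decide +kernel

theorem rel_lt : (relW.all fun w => w.all fun g => Nat.blt g 7) = true := by decide +kernel

theorem rel_fast0 : ((List.range 25).all fun i =>
    chkRows (relW.getD i []) (scalRows (relS.getD i 0))) = true := by decide +kernel

theorem rel_fast1 : chkRows (relW.getD 25 []) (scalRows (relS.getD 25 0)) = true := by decide +kernel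

theorem rel_rows {i : ℕ} (hi : i < 26) :
    wordRows (relW.getD i []) idRows = scalRows (relS.getD i 0) := by
  refine chkRows_spec (fun g hg => ?_) ?_
  · refine List.all_eq_true.1 fit_ok g (List.mem_range.2 ?_)
    have hlen : relW.length = 26 := by decide +kernel
    have h := List.all_eq_true.1 rel_lt (relW.getD i [])
      (by rw [List.getD_eq_getElem _ _ (hlen.symm ▸ hi)]; exact List.getElem_mem _)
    simpa [Nat.blt_eq] using List.all_eq_true.1 h g hg
  · rcases Nat.lt_or_ge i 25 with h | h
    · exact List.all_eq_true.1 rel_fast0 i (List.mem_range.2 h)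
    · obtain rfl : i = 25 := by omega
      exact rel_fast1

end Cfsg.Agent.Leech.SuzCent
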