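import Cfsg.Agent.Lib.Leech.SuzCent.Checks
import Cfsg.Agent.Lib.Leech.SuzCent.Mats
import Cfsg.Agent.Lib.Leech.SuzCent.Rels
import Cfsg.Agent.Lib.Presented.Coset

/-!
# An element of order three of `Co0` and seven elements commuting with it
-/

set_option autoImplicit false
set_option maxRecDepth 20000

namespace Cfsg.Agent.Leech.SuzCent

open Cfsg
open Cfsg.Agent.Presented (wval)

theorem mat_ok {g : ℕ} (hg : g < 8) : matOK (matT g) = true := by
  interval_cases g
  exacts [mat_ok0, mat_ok1, mat_ok2, mat_ok3, mat_ok4, mat_ok5, mat_ok6, mat_ok7]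

/-- Element number `g`. -/
def el (g : ℕ) : Co0 := if h : matOK (matT g) = true then matElt h else 1

theorem el_smul {g : ℕ} (hg : g < 8) (v : leechLattice) :
    ((el g • v : leechLattice) : GolayPt → ℤ) = mFun (matT g) v := by
  rw [el, dif_pos (mat_ok hg), matElt_smul]

attribute [irreducible] el

/-- The element of order three. -/
def aElt : Co0 := el 7

/-- The walk of one row. -/
def runL : List ℕ → List ℤ → List ℤ
  | [], r => r
  | g :: w, r => runL w (step (matT g) r)

theorem wordRows_eq : ∀ (w : List ℕ) (rows : List (List ℤ)), wordRows w rows = rows.map (runL w)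
  | [], rows => by simp [wordRows, runL]
  | g :: w, rows => by rw [wordRows, wordRows_eq w, List.map_map]; rfl

theorem runL_spec : ∀ (w : List ℕ), (∀ g ∈ w, g < 8) → ∀ (r : List ℤ) (v : leechLattice), r.length = 24 →
    (v : GolayPt → ℤ) = vecL r →
      (runL w r).length = 24 ∧ ((wval el w • v : leechLattice) : GolayPt → ℤ) = vecL (runL w r)
  | [], _, r, v, hr, hv => ⟨hr, by rw [wval, one_smul]; exact hv⟩
  | g :: w, hw, r, v, hr, hv => by
    have hg := hw g List.mem_cons_self
    have hs : sizeOK (matT g) = true := by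
      have := mat_ok hg
      simp only [matOK, Bool.and_eq_true] at this
      exact this.1.1
    obtain ⟨h1, h2⟩ := step_spec _ hs hr
    obtain ⟨h3, h4⟩ := runL_spec w (fun x hx => hw x (List.mem_cons_of_mem _ hx)) _ (el g • v) h1
      (by rw [el_smul hg, hv, h2])
    exact ⟨h3, by rw [wval, mul_smul]; exact h4⟩

theorem idRows_facts : idRows.length = 24 ∧ (∀ r ∈ idRows, r.length = 24) ∧
    ∀ p q : GolayPt, vecL (idRows.getD (Mathieu.ptEnc p).val []) q = (Pi.single p 8 : GolayPt → ℤ) q := by
  decide +kernel

theorem word_eight {w : List ℕ} (hw : ∀ g ∈ w, g < 8) (p : GolayPt) :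
    ((wval el w • eight p : leechLattice) : GolayPt → ℤ) =
      vecL ((wordRows w idRows).getD (Mathieu.ptEnc p).val []) := by
  obtain ⟨hl, hr, he⟩ := idRows_facts
  have hp : (Mathieu.ptEnc p).val < idRows.length := by rw [hl]; exact (Mathieu.ptEnc p).isLt
  obtain ⟨-, h⟩ := runL_spec w hw (idRows.getD (Mathieu.ptEnc p).val []) (eight p)
    (hr _ (by rw [List.getD_eq_getElem _ _ hp]; exact List.getElem_mem _))
    (by rw [eight_val]; exact funext fun q => (he p q).symm)
  rw [h, wordRows_eq, List.getD_eq_getElem _ _ hp, List.getD_eq_getElem _ _ (by rwa [List.length_map]),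
    List.getElem_map]

theorem eq_of_rows {u v : List ℕ} (hu : ∀ g ∈ u, g < 8) (hv : ∀ g ∈ v, g < 8)
    (h : wordRows u idRows = wordRows v idRows) : wval el u = wval el v :=
  co0_ext _ _ fun p => Subtype.ext (by rw [word_eight hu, word_eight hv, h])

theorem ne_of_rows {u v : List ℕ} (hu : ∀ g ∈ u, g < 8) (hv : ∀ g ∈ v, g < 8)
    (h : ∃ p q : GolayPt, vecL ((wordRows u idRows).getD (Mathieu.ptEnc p).val []) q ≠
      vecL ((wordRows v idRows).getD (Mathieu.ptEnc p).val []) q) : wval el u ≠ wval el v := by
  intro e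
  obtain ⟨p, q, hne⟩ := h
  exact hne (by rw [← word_eight hu, ← word_eight hv, e])

theorem el_comm {g : ℕ} (hg : g < 7) : el g * aElt = aElt * el g := by
  have h := List.all_eq_true.1 comm_check g (List.mem_range.2 hg)
  have := eq_of_rows (u := [g, 7]) (v := [7, g]) (by simp; omega) (by simp; omega) (beq_iff_eq.1 h)
  simpa [wval, aElt] using this.symm

theorem aElt_cube : aElt ^ 3 = 1 := by
  have := eq_of_rows (u := [7, 7, 7]) (v := []) (by simp) (by simp) order_check.1
  simpa [wval, aElt, pow_succ, mul_assoc] using this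

theorem moves_check : (∃ p q : GolayPt, vecL ((wordRows [7] idRows).getD (Mathieu.ptEnc p).val []) q ≠
    vecL ((wordRows [] idRows).getD (Mathieu.ptEnc p).val []) q) ∧
    ∃ p q : GolayPt, vecL ((wordRows [0, 1] idRows).getD (Mathieu.ptEnc p).val []) q ≠
      vecL ((wordRows [1, 0] idRows).getD (Mathieu.ptEnc p).val []) q := by decide +kernel

theorem aElt_ne_one : aElt ≠ 1 := by
  have := ne_of_rows (u := [7]) (v := []) (by simp) (by simp) moves_check.1
  simpa [wval, aElt] using this

theorem el_noncomm : el 0 * el 1 ≠ el 1 * el 0 := by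
  have := ne_of_rows (u := [0, 1]) (v := [1, 0]) (by simp) (by simp) moves_check.2
  intro h
  exact this (by simpa [wval] using h.symm)

theorem orderOf_aElt : orderOf aElt = 3 := by
  haveI := Fact.mk Nat.prime_three
  exact orderOf_eq_prime aElt_cube aElt_ne_one

/-- The scalars. -/
def scal (s : ℕ) : Co0 := (if s < 3 then 1 else negElt) * aElt ^ (s % 3)

theorem eq_scal_of_rows {w : List ℕ} (hw : ∀ g ∈ w, g < 8) {s : ℕ}
    (h : wordRows w idRows = scalRows s) : wval el w = scal s := by
  refine co0_ext _ _ fun p => Subtype.ext ?_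
  set rep := List.replicate (s % 3) 7
  have hrep : ∀ g ∈ rep, g < 8 := fun g hg => by rw [List.eq_of_mem_replicate hg]; norm_num
  have hpow : wval el rep = aElt ^ (s % 3) := by
    have : ∀ k, wval el (List.replicate k 7) = aElt ^ k := by
      intro k
      induction k with
      | zero => rfl
      | succ k ih => rw [List.replicate_succ, wval, ih, pow_succ]; rfl
    exact this _
  have hlen : (Mathieu.ptEnc p).val < (wordRows rep idRows).length := by
    rw [wordRows_eq, List.length_map, idRows_facts.1]; exact (Mathieu.ptEnc p).isLt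
  rw [word_eight hw, h, scal, scalRows, mul_smul, List.getD_eq_getElem _ _ (by rwa [List.length_map]),
    List.getElem_map, ← List.getD_eq_getElem _ [] hlen]
  have hb := word_eight hrep p
  rw [hpow] at hb
  by_cases hs : s < 3
  · rw [if_pos hs, if_pos hs, one_smul, hb]
  · rw [if_neg hs, if_neg hs, negElt_smul, AddSubgroup.coe_neg, hb]
    funext q
    simp only [vecL, Pi.neg_apply, List.getD_eq_getElem?_getD, List.getElem?_map]
    cases ((wordRows rep idRows)[(Mathieu.ptEnc p).val]?.getD [])[(Mathieu.ptEnc q).val]? <;> simp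

end Cfsg.Agent.Leech.SuzCent
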