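import Cfsg.Agent.Lib.Leech.SuzCent.Defs

/-!
# Packed evaluation of the matrices

Coordinates are shifted by 16 and a row is packed into one natural number, 16 bits to a coordinate.
-/

set_option autoImplicit false
set_option maxRecDepth 20000

namespace Cfsg.Agent.Leech.SuzCent

open Cfsg Finset

/-- Packing of small numbers. -/
def packN : List ℕ → ℕ
  | x :: l => Nat.add x (Nat.mul 65536 (packN l))
  | [] => 0

/-- The combination of packed rows. -/
def linP : List ℕ → List ℕ → ℕ
  | c :: cs, r :: rs => Nat.add (Nat.mul c r) (linP cs rs)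
  | _, _ => 0

/-- The sum of a list. -/
def sumN : List ℕ → ℕ
  | c :: cs => Nat.add c (sumN cs)
  | [] => 0

/-- Unpacking and removal of the shifts. -/
def decP : List ℕ → ℕ → ℕ → List ℕ
  | k :: ks, C, X =>
    Nat.div (Nat.sub (Nat.add (Nat.mod X 65536) 6272) (Nat.add C k)) 8 :: decP ks C (Nat.div X 65536)
  | [], _, _ => []

/-- The shifted list. -/
def shL (l : List ℤ) : List ℕ := l.map fun x => (x + 16).toNat

/-- The original of a shifted list. -/
def unL (l : List ℕ) : List ℤ := l.map fun x : ℕ => (x : ℤ) - 16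

/-- The shifted matrix. -/
def shT (g : ℕ) : List (List ℕ) := (matT g).map shL

/-- The packed rows. -/
def packT (g : ℕ) : List ℕ := (shT g).map packN

/-- The column sums. -/
def colT (g : ℕ) : List ℕ := (List.range 24).map fun k => Nat.mul 16 (sumN ((shT g).map fun r => r.getD k 0))

/-- One packed step. -/
def stepP (g : ℕ) (l : List ℕ) : List ℕ := decP (colT g) (Nat.mul 16 (sumN l)) (linP l (packT g))

/-- The range of shifted coordinates. -/
def okL (l : List ℕ) : Bool := l.all fun x => Nat.ble 1 x && Nat.ble x 31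

/-- A walk with all coordinates in range. -/
def chkP : List ℕ → List ℕ → List ℕ → Bool
  | [], r, t => r == t
  | g :: w, r, t => okL (stepP g r) && chkP w (stepP g r) t

/-- The matrix fits. -/
def fitOK (g : ℕ) : Bool :=
  (shT g).length == 24 && (shT g).all (fun r => r.length == 24 && okL r) && (matT g).all fun r => unL (shL r) == r

/-- The rows of a word agree with the given rows. -/
def chkRows (w : List ℕ) (rows : List (List ℤ)) : Bool :=
  rows.length == 24 && (List.range 24).all fun n =>
    okL (shL (idRows.getD n [])) && unL (shL (rows.getD n [])) == rows.getD n [] &&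
      chkP w (shL (idRows.getD n [])) (shL (rows.getD n []))

/-- The list-level combination. -/
def linN : List ℕ → List (List ℕ) → List ℕ
  | c :: cs, r :: rs => List.zipWith (fun x a => c * x + a) r (linN cs rs)
  | _, _ => List.replicate 24 0

theorem packN_replicate : ∀ n, packN (List.replicate n 0) = 0
  | 0 => rfl
  | n + 1 => by rw [List.replicate_succ, packN, packN_replicate n]

theorem packN_zip (c : ℕ) : ∀ r a : List ℕ, r.length = a.length →
    packN (List.zipWith (fun x y => c * x + y) r a) = c * packN r + packN a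
  | [], [], _ => by simp [packN]
  | x :: r, y :: a, h => by
    simp only [List.zipWith_cons_cons, packN, packN_zip c r a (by simpa using h), Nat.add_eq, Nat.mul_eq]
    ring
  | [], _ :: _, h => by simp at h
  | _ :: _, [], h => by simp at h

theorem linN_spec : ∀ (cs : List ℕ) (rs : List (List ℕ)), cs.length = rs.length →
    (∀ r ∈ rs, r.length = 24) →
    (linN cs rs).length = 24 ∧ linP cs (rs.map packN) = packN (linN cs rs) ∧
      ∀ k < 24, (linN cs rs).getD k 0 = ∑ n ∈ range cs.length, cs.getD n 0 * (rs.getD n []).getD k 0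
  | [], [], _, _ => ⟨by simp [linN],
      (packN_replicate 24).symm.trans (congrArg packN (show List.replicate 24 0 = linN [] [] from rfl)),
      fun k hk => by
        show (List.replicate 24 0).getD k 0 = _
        rw [List.getD_eq_getElem?_getD, List.getElem?_replicate, if_pos hk]
        simp⟩
  | c :: cs, r :: rs, h, hr => by
    obtain ⟨h1, h2, h3⟩ := linN_spec cs rs (by simpa using h) fun x hx => hr x (List.mem_cons_of_mem _ hx)
    have hrl := hr r List.mem_cons_self
    refine ⟨by simp [linN, h1, hrl], ?_, fun k hk => ?_⟩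
    · rw [List.map_cons, linP, linN, packN_zip c r _ (hrl.trans h1.symm), h2]; rfl
    · rw [linN, List.getD_eq_getElem _ _ (by simp [h1, hrl, hk]), List.getElem_zipWith, List.length_cons,
        sum_range_succ', ← List.getD_eq_getElem r 0 (hrl ▸ hk), ← List.getD_eq_getElem _ 0 (h1.symm ▸ hk),
        h3 k hk]
      simp only [List.getD_cons_succ, List.getD_cons_zero]
      ring
  | [], _ :: _, h, _ => by simp at h
  | _ :: _, [], h, _ => by simp at h

theorem decP_pack (C : ℕ) : ∀ ks L : List ℕ, ks.length = L.length → (∀ x ∈ L, x < 65536) →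
    decP ks C (packN L) = List.zipWith (fun k x => (x + 6272 - (C + k)) / 8) ks L
  | [], [], _, _ => rfl
  | k :: ks, x :: L, h, hb => by
    have hx : x < 65536 := hb x List.mem_cons_self
    have e1 : packN (x :: L) % 65536 = x := by
      show (x + 65536 * packN L) % 65536 = x
      omega
    have e2 : packN (x :: L) / 65536 = packN L := by
      show (x + 65536 * packN L) / 65536 = packN L
      omega
    show Nat.div (Nat.sub (Nat.add (Nat.mod (packN (x :: L)) 65536) 6272) (Nat.add C k)) 8 ::
      decP ks C (Nat.div (packN (x :: L)) 65536) = _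
    rw [show Nat.mod (packN (x :: L)) 65536 = x from e1, show Nat.div (packN (x :: L)) 65536 = packN L from e2,
      decP_pack C ks L (by simpa using h) fun y hy => hb y (List.mem_cons_of_mem _ hy), List.zipWith_cons_cons]
    rfl
  | [], _ :: _, h, _ => by simp at h
  | _ :: _, [], h, _ => by simp at h

theorem sumN_spec : ∀ l : List ℕ, sumN l = ∑ n ∈ range l.length, l.getD n 0
  | [] => rfl
  | x :: l => by
    rw [sumN, List.length_cons, sum_range_succ', sumN_spec l]
    simp [add_comm]

theorem okL_bound {l : List ℕ} (h : okL l = true) (n : ℕ) (hn : n < l.length) :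
    1 ≤ l.getD n 0 ∧ l.getD n 0 ≤ 31 := by
  simp only [okL, List.all_eq_true, Bool.and_eq_true, Nat.ble_eq] at h
  rw [List.getD_eq_getElem _ _ hn]
  exact h _ (List.getElem_mem hn)

theorem unL_getD (l : List ℕ) {n : ℕ} (hn : n < l.length) : (unL l).getD n 0 = (l.getD n 0 : ℤ) - 16 := by
  rw [unL, List.getD_eq_getElem _ _ (by simpa using hn), List.getElem_map, List.getD_eq_getElem _ _ hn]

theorem stepP_spec {g : ℕ} (hg : fitOK g = true) {l : List ℕ} (hl : l.length = 24) (ho : okL l = true)
    (ho' : okL (stepP g l) = true) :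
    (stepP g l).length = 24 ∧ unL (stepP g l) = step (matT g) (unL l) := by
  simp only [fitOK, Bool.and_eq_true, List.all_eq_true, beq_iff_eq] at hg
  obtain ⟨⟨hlen, hrow⟩, hun⟩ := hg
  have hmT : matT g = (shT g).map unL := by
    rw [shT, List.map_map]
    exact ((List.map_congr_left fun r hr => hun r hr).trans (List.map_id _)).symm
  obtain ⟨h1, h2, h3⟩ := linN_spec l (shT g) (hl.trans hlen.symm) fun r hr => (hrow r hr).1
  have hent : ∀ n < 24, ∀ k < 24, ((shT g).getD n []).getD k 0 ≤ 31 := fun n hn k hk => by
    have hm : (shT g).getD n [] ∈ shT g := by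
      rw [List.getD_eq_getElem _ _ (hlen.symm ▸ hn)]; exact List.getElem_mem _
    exact (okL_bound (hrow _ hm).2 k ((hrow _ hm).1.symm ▸ hk)).2
  have hlt : ∀ x ∈ linN l (shT g), x < 65536 := by
    intro x hx
    obtain ⟨k, hk, rfl⟩ := List.getElem_of_mem hx
    have hk24 : k < 24 := h1 ▸ hk
    rw [← List.getD_eq_getElem _ 0 hk, h3 k hk24, hl]
    refine lt_of_le_of_lt (sum_le_card_nsmul _ _ (31 * 31) fun n hn => ?_) (by simp)
    have hn' := Finset.mem_range.1 hn
    exact Nat.mul_le_mul (okL_bound ho n (hl.symm ▸ hn')).2 (hent n hn' k hk24)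
  have hcol : (colT g).length = 24 := by simp [colT]
  have hstep : stepP g l = List.zipWith (fun k x => (x + 6272 - (16 * sumN l + k)) / 8) (colT g)
      (linN l (shT g)) := by
    rw [stepP, packT, h2, decP_pack _ _ _ (hcol.trans h1.symm) hlt]; rfl
  have hsl : (stepP g l).length = 24 := by rw [hstep, List.length_zipWith, hcol, h1]; rfl
  refine ⟨hsl, ?_⟩
  obtain ⟨m1, m2⟩ := lin_spec (unL l) (matT g)
    (by rw [hmT, List.length_map, hlen]; simp [unL, hl])
    (fun r hr => by
      rw [hmT, List.mem_map] at hr
      obtain ⟨r', hr', rfl⟩ := hr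
      simp [unL, (hrow r' hr').1])
  refine List.ext_getElem (by rw [step, List.length_map, m1]; simp [unL, hsl]) fun k hk hk' => ?_
  have hk24 : k < 24 := by simpa [unL, hsl] using hk
  have hb := okL_bound ho' k (hsl.symm ▸ hk24)
  rw [← List.getD_eq_getElem _ 0 hk, unL_getD _ (hsl.symm ▸ hk24)]
  have hkm : k < (lin (unL l) (matT g)).length := m1.symm ▸ hk24
  simp only [step, List.getElem_map]
  rw [← List.getD_eq_getElem _ 0 hkm, m2, show (unL l).length = 24 by simp [unL, hl]]
  have e : (stepP g l).getD k 0 = (∑ n ∈ range 24, l.getD n 0 * ((shT g).getD n []).getD k 0 + 6272 -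
      (16 * ∑ n ∈ range 24, l.getD n 0 + 16 * ∑ n ∈ range 24, ((shT g).getD n []).getD k 0)) / 8 := by
    rw [hstep, List.getD_eq_getElem _ _ (by simp [hcol, h1, hk24]), List.getElem_zipWith,
      ← List.getD_eq_getElem _ 0 (h1.symm ▸ hk24), h3 k hk24, sumN_spec, hl]
    simp only [colT, List.getElem_map, List.getElem_range, sumN_spec, List.length_map, hlen, Nat.mul_eq]
    have hc : ∀ n ∈ range 24, ((shT g).map fun r => r.getD k 0).getD n 0 =
        ((shT g).getD n []).getD k 0 := by
      intro n hn
      have hn' := Finset.mem_range.1 hn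
      rw [List.getD_eq_getElem _ _ (by simp [hlen, hn']), List.getElem_map,
        List.getD_eq_getElem _ [] (hlen.symm ▸ hn')]
    rw [sum_congr rfl hc]
  have hsum : ∑ n ∈ range 24, (unL l).getD n 0 * ((matT g).getD n []).getD k 0 =
      ((∑ n ∈ range 24, l.getD n 0 * ((shT g).getD n []).getD k 0 : ℕ) : ℤ) -
        16 * ((∑ n ∈ range 24, l.getD n 0 : ℕ) : ℤ) -
        16 * ((∑ n ∈ range 24, ((shT g).getD n []).getD k 0 : ℕ) : ℤ) + 6144 := by
    have : ∀ n ∈ range 24, (unL l).getD n 0 * ((matT g).getD n []).getD k 0 =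
        ((l.getD n 0 * ((shT g).getD n []).getD k 0 : ℕ) : ℤ) - 16 * (l.getD n 0 : ℤ) -
          16 * (((shT g).getD n []).getD k 0 : ℤ) + 256 := by
      intro n hn
      have hn' := Finset.mem_range.1 hn
      have hm : (shT g).getD n [] ∈ shT g := by
        rw [List.getD_eq_getElem _ _ (hlen.symm ▸ hn')]; exact List.getElem_mem _
      rw [unL_getD _ (hl.symm ▸ hn'), hmT, List.getD_eq_getElem ((shT g).map unL) [] (by simp [hlen, hn']), List.getElem_map,
        ← List.getD_eq_getElem _ [] (hlen.symm ▸ hn'), unL_getD _ ((hrow _ hm).1.symm ▸ hk24)]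
      push_cast
      ring
    rw [sum_congr rfl this, sum_add_distrib, sum_sub_distrib, sum_sub_distrib, ← mul_sum, ← mul_sum]
    push_cast
    simp
  rw [e] at hb ⊢
  rw [hsum]
  omega

theorem chkP_spec : ∀ (w : List ℕ), (∀ g ∈ w, fitOK g = true) → ∀ r t : List ℕ, r.length = 24 →
    okL r = true → chkP w r t = true → w.foldl (fun l g => step (matT g) l) (unL r) = unL t
  | [], _, r, t, _, _, h => by
    rw [chkP, beq_iff_eq] at h; rw [List.foldl_nil, h]
  | g :: w, hw, r, t, hr, ho, h => by
    rw [chkP, Bool.and_eq_true] at h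
    obtain ⟨s1, s2⟩ := stepP_spec (hw g List.mem_cons_self) hr ho h.1
    rw [List.foldl_cons, ← s2]
    exact chkP_spec w (fun x hx => hw x (List.mem_cons_of_mem _ hx)) _ t s1 h.1 h.2

theorem wordRows_foldl : ∀ (w : List ℕ) (rows : List (List ℤ)),
    wordRows w rows = rows.map fun r => w.foldl (fun l g => step (matT g) l) r
  | [], rows => by simp [wordRows]
  | g :: w, rows => by rw [wordRows, wordRows_foldl w, List.map_map]; rfl

theorem chkRows_spec {w : List ℕ} (hw : ∀ g ∈ w, fitOK g = true) {rows : List (List ℤ)}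
    (h : chkRows w rows = true) : wordRows w idRows = rows := by
  simp only [chkRows, Bool.and_eq_true, List.all_eq_true, beq_iff_eq] at h
  obtain ⟨hl, h⟩ := h
  have hid : idRows.length = 24 := by simp [idRows]
  have hidr : ∀ n < 24, unL (shL (idRows.getD n [])) = idRows.getD n [] ∧
      (shL (idRows.getD n [])).length = 24 := by decide +kernel
  refine List.ext_getElem (by rw [wordRows_foldl, List.length_map, hid, hl]) fun n h1 h2 => ?_
  have hn : n < 24 := hl ▸ h2
  obtain ⟨⟨a, b⟩, c⟩ := h n (List.mem_range.2 hn)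
  have := chkP_spec w hw _ _ (hidr n hn).2 a c
  rw [(hidr n hn).1, b, List.getD_eq_getElem _ _ (hid.symm ▸ hn), List.getD_eq_getElem _ _ h2] at this
  simp only [wordRows_foldl, List.getElem_map]
  exact this

end Cfsg.Agent.Leech.SuzCent
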