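import Cfsg.Agent.Lib.Leech.Monomial
import Cfsg.Agent.Lib.Leech.Xi

/-!
# Elements of `Co0` from integer matrices

The rows of a matrix `T` are the images of the vectors `8 e_n`; an orthogonal `T` mapping the lattice
generators into the lattice gives an element of `Co0`.
-/

set_option autoImplicit false

namespace Cfsg.Agent.Leech.SuzCent

open Cfsg Finset

/-- The function of a list of coordinates. -/
def vecL (l : List ℤ) : GolayPt → ℤ := fun p => l.getD (Mathieu.ptEnc p).val 0

/-- The list of coordinates of a function. -/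
def lstL (x : GolayPt → ℤ) : List ℤ := List.ofFn fun n : Fin 24 => x (Mathieu.ptEnc.symm n)

theorem vecL_lstL (x : GolayPt → ℤ) : vecL (lstL x) = x := by
  funext p
  simp only [vecL, lstL]
  rw [List.getD_eq_getElem _ _ (by simp), List.getElem_ofFn]
  simp

/-- Adding a multiple of a row. -/
def addS : List ℤ → ℤ → List ℤ → List ℤ
  | r :: rs, c, a :: as => (c * r + a) :: addS rs c as
  | _, _, _ => []

/-- The combination of the rows with the given coefficients. -/
def lin : List ℤ → List (List ℤ) → List ℤ
  | c :: cs, r :: rs => if c = 0 then lin cs rs else addS r c (lin cs rs)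
  | _, _ => List.replicate 24 0

theorem addS_spec : ∀ (r a : List ℤ) (c : ℤ), r.length = a.length →
    (addS r c a).length = a.length ∧ ∀ k, (addS r c a).getD k 0 = c * r.getD k 0 + a.getD k 0
  | [], [], c, _ => ⟨rfl, fun k => by simp [addS]⟩
  | x :: r, y :: a, c, h => by
    obtain ⟨h1, h2⟩ := addS_spec r a c (by simpa using h)
    refine ⟨by simp [addS, h1], fun k => ?_⟩
    cases k with
    | zero => simp [addS]
    | succ k => simpa [addS] using h2 k
  | [], _ :: _, _, h => by simp at h
  | _ :: _, [], _, h => by simp at h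

theorem lin_spec : ∀ (cs : List ℤ) (rs : List (List ℤ)), cs.length = rs.length →
    (∀ r ∈ rs, r.length = 24) →
    (lin cs rs).length = 24 ∧
      ∀ k, (lin cs rs).getD k 0 = ∑ n ∈ range cs.length, cs.getD n 0 * (rs.getD n []).getD k 0
  | [], [], _, _ => ⟨rfl, fun k => by
      show (List.replicate 24 (0 : ℤ)).getD k 0 = _
      rw [List.getD_eq_getElem?_getD, List.getElem?_replicate]; split <;> simp⟩
  | c :: cs, r :: rs, h, hr => by
    obtain ⟨h1, h2⟩ := lin_spec cs rs (by simpa using h) fun x hx => hr x (List.mem_cons_of_mem _ hx)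
    have hrl := hr r List.mem_cons_self
    obtain ⟨a1, a2⟩ := addS_spec r (lin cs rs) c (hrl.trans h1.symm)
    by_cases hc : c = 0
    · refine ⟨by simp [lin, hc, h1], fun k => ?_⟩
      rw [lin, if_pos hc, h2, List.length_cons, sum_range_succ']
      simp [hc]
    · refine ⟨by simp [lin, hc, a1, h1], fun k => ?_⟩
      rw [lin, if_neg hc, a2, h2, List.length_cons, sum_range_succ']
      simp [add_comm]
  | [], _ :: _, h, _ => by simp at h
  | _ :: _, [], h, _ => by simp at h

variable (T : List (List ℤ))

/-- Entry. -/
def ent (i j : GolayPt) : ℤ := (T.getD (Mathieu.ptEnc i).val []).getD (Mathieu.ptEnc j).val 0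

/-- Eight times the linear map. -/
def num (x : GolayPt → ℤ) : GolayPt → ℤ := fun k => ∑ i, x i * ent T i k

/-- Eight times the transposed map. -/
def numT (x : GolayPt → ℤ) : GolayPt → ℤ := fun k => ∑ i, x i * ent T k i

/-- The linear map. -/
def mFun (x : GolayPt → ℤ) : GolayPt → ℤ := fun k => num T x k / 8

/-- The transposed map. -/
def mFunT (x : GolayPt → ℤ) : GolayPt → ℤ := fun k => numT T x k / 8

/-- The linear map on lists. -/
def step (l : List ℤ) : List ℤ := (lin l T).map (· / 8)

/-- The shape of a matrix. -/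
def sizeOK : Bool := T.length == 24 && T.all fun r => r.length == 24

theorem step_spec (h : sizeOK T = true) {l : List ℤ} (hl : l.length = 24) :
    (step T l).length = 24 ∧ vecL (step T l) = mFun T (vecL l) := by
  simp only [sizeOK, Bool.and_eq_true, beq_iff_eq, List.all_eq_true] at h
  obtain ⟨h1, h2⟩ := lin_spec l T (hl.trans h.1.symm) h.2
  refine ⟨by rw [step, List.length_map, h1], funext fun p => ?_⟩
  have hp : (Mathieu.ptEnc p).val < (lin l T).length := by rw [h1]; exact (Mathieu.ptEnc p).isLt
  show ((lin l T).map (· / 8)).getD (Mathieu.ptEnc p).val 0 = _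
  rw [List.getD_eq_getElem _ _ (by rw [List.length_map]; exact hp), List.getElem_map,
    ← List.getD_eq_getElem _ 0 hp, h2, hl, mFun, num, ← Equiv.sum_comp Mathieu.ptEnc.symm]
  simp only [vecL, ent, Equiv.apply_symm_apply]
  rw [Fin.sum_univ_eq_sum_range fun i => l.getD i 0 * (T.getD i []).getD (Mathieu.ptEnc p).val 0]

/-- Rows against rows and columns against columns. -/
def orthOK : Bool :=
  ((List.range 24).all fun a => (List.range 24).all fun b =>
    (List.zipWith (· * ·) (T.getD a []) (T.getD b [])).sum == if a == b then 64 else 0) &&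
  ((List.range 24).all fun a =>
    lin ((List.range 24).map fun i => (T.getD i []).getD a 0) T ==
      (List.range 24).map fun b => if a == b then 64 else 0)

/-- The transposed matrix. -/
def trT : List (List ℤ) := (List.range 24).map fun a => (List.range 24).map fun i => (T.getD i []).getD a 0

/-- The image of a vector is integral and lies in the lattice. -/
def imgOK (U : List (List ℤ)) (g : GolayPt → ℤ) : Bool :=
  (lin (lstL g) U).all (fun x => x % 8 == 0) && inLB (vecL (step U (lstL g)))

/-- The images of the lattice generators under both maps lie in the lattice. -/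
def latOK : Bool := latGens.all fun g => imgOK T g && imgOK (trT T) g

/-- All conditions. -/
def matOK : Bool := sizeOK T && orthOK T && latOK T

variable {T}

theorem zip_sum : ∀ a b : List ℤ, a.length = b.length →
    (List.zipWith (· * ·) a b).sum = ∑ n ∈ range a.length, a.getD n 0 * b.getD n 0
  | [], [], _ => by simp
  | x :: a, y :: b, h => by
    rw [List.zipWith_cons_cons, List.sum_cons, zip_sum a b (by simpa using h), List.length_cons,
      sum_range_succ']
    simp [add_comm]
  | [], _ :: _, h => by simp at h
  | _ :: _, [], h => by simp at h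

theorem orth_rows (h : matOK T = true) (a b : GolayPt) :
    ∑ k, ent T a k * ent T b k = if a = b then 64 else 0 := by
  simp only [matOK, sizeOK, orthOK, Bool.and_eq_true, beq_iff_eq, List.all_eq_true] at h
  obtain ⟨⟨⟨hl, hr⟩, ho, -⟩, -⟩ := h
  have hlen : ∀ i : GolayPt, (T.getD (Mathieu.ptEnc i).val []).length = 24 := fun i => by
    rw [List.getD_eq_getElem _ _ (lt_of_lt_of_eq (Mathieu.ptEnc i).isLt hl.symm)]; exact hr _ (List.getElem_mem _)
  have h1 := ho _ (List.mem_range.2 (Mathieu.ptEnc a).isLt) _ (List.mem_range.2 (Mathieu.ptEnc b).isLt)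
  rw [zip_sum _ _ ((hlen a).trans (hlen b).symm), hlen a] at h1
  rw [← Equiv.sum_comp Mathieu.ptEnc.symm]
  simp only [ent, Equiv.apply_symm_apply]
  rw [Fin.sum_univ_eq_sum_range
    fun i => (T.getD (Mathieu.ptEnc a).val []).getD i 0 * (T.getD (Mathieu.ptEnc b).val []).getD i 0, h1]
  simp [← Fin.ext_iff]

theorem orth_cols (h : matOK T = true) (a b : GolayPt) :
    ∑ i, ent T i a * ent T i b = if a = b then 64 else 0 := by
  simp only [matOK, sizeOK, orthOK, Bool.and_eq_true, beq_iff_eq, List.all_eq_true] at h
  obtain ⟨⟨⟨hl, hr⟩, -, ho⟩, -⟩ := h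
  have h1 := ho _ (List.mem_range.2 (Mathieu.ptEnc a).isLt)
  obtain ⟨-, h2⟩ := lin_spec ((List.range 24).map fun i => (T.getD i []).getD (Mathieu.ptEnc a).val 0) T
    (by rw [List.length_map, List.length_range, hl]) hr
  have h3 := h2 (Mathieu.ptEnc b).val
  rw [h1, List.length_map, List.length_range] at h3
  simp only [List.getD_eq_getElem?_getD, List.getElem?_map, List.getElem?_range (Mathieu.ptEnc b).isLt,
    Option.map_some, Option.getD_some, beq_iff_eq, ← Fin.ext_iff, Equiv.apply_eq_iff_eq] at h3
  rw [h3, ← Fin.sum_univ_eq_sum_range, ← Equiv.sum_comp Mathieu.ptEnc.symm]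
  simp [ent, List.getElem?_map, List.getD_eq_getElem?_getD]

theorem num_add (x y : GolayPt → ℤ) : num T (x + y) = num T x + num T y := by
  funext k; simp [num, add_mul, sum_add_distrib]

theorem num_neg (x : GolayPt → ℤ) : num T (-x) = -num T x := by
  funext k; simp [num, neg_mul, sum_neg_distrib]

theorem numT_add (x y : GolayPt → ℤ) : numT T (x + y) = numT T x + numT T y := by
  funext k; simp [numT, add_mul, sum_add_distrib]

theorem numT_neg (x : GolayPt → ℤ) : numT T (-x) = -numT T x := by
  funext k; simp [numT, neg_mul, sum_neg_distrib]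

theorem numT_num (h : matOK T = true) (x : GolayPt → ℤ) : numT T (num T x) = 64 • x := by
  funext k
  simp only [numT, num, sum_mul, mul_assoc]
  rw [sum_comm]
  simp only [← mul_sum, orth_rows h _ k]
  simp [mul_comm]

theorem num_numT (h : matOK T = true) (x : GolayPt → ℤ) : num T (numT T x) = 64 • x := by
  funext k
  simp only [numT, num, sum_mul, mul_assoc]
  rw [sum_comm]
  simp only [← mul_sum, orth_cols h _ k]
  simp [mul_comm]

/-- Both maps keep a vector in the lattice. -/
def Keeps (T : List (List ℤ)) (x : GolayPt → ℤ) : Prop :=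
  (∀ k, num T x k % 8 = 0) ∧ InL (mFun T x) ∧ (∀ k, numT T x k % 8 = 0) ∧ InL (mFunT T x)

theorem imgOK_spec {U : List (List ℤ)} (hU : sizeOK U = true) {g : GolayPt → ℤ} (h : imgOK U g = true) :
    (∀ k, num U g k % 8 = 0) ∧ InL (mFun U g) := by
  simp only [imgOK, Bool.and_eq_true, List.all_eq_true, beq_iff_eq] at h
  have hl : (lstL g).length = 24 := by simp [lstL]
  obtain ⟨-, h2⟩ := step_spec U hU hl
  rw [vecL_lstL] at h2
  refine ⟨fun k => ?_, by rw [← h2]; exact inL_of_inLB h.2⟩
  simp only [sizeOK, Bool.and_eq_true, beq_iff_eq, List.all_eq_true] at hU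
  obtain ⟨l1, l2⟩ := lin_spec (lstL g) U (hl.trans hU.1.symm) hU.2
  have hk : (Mathieu.ptEnc k).val < (lin (lstL g) U).length := by rw [l1]; exact (Mathieu.ptEnc k).isLt
  have := h.1 _ (List.getElem_mem hk)
  rw [← List.getD_eq_getElem _ 0 hk, l2, hl] at this
  rw [num, ← Equiv.sum_comp Mathieu.ptEnc.symm]
  simp only [ent, Equiv.apply_symm_apply]
  conv_lhs => rw [← vecL_lstL g]
  simp only [vecL, Equiv.apply_symm_apply]
  rw [Fin.sum_univ_eq_sum_range fun i => (lstL g).getD i 0 * (U.getD i []).getD (Mathieu.ptEnc k).val 0]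
  exact this

theorem ent_trT (i j : GolayPt) : ent (trT T) i j = ent T j i := by
  simp [ent, trT, List.getD_eq_getElem?_getD, List.getElem?_range (Mathieu.ptEnc i).isLt,
    List.getElem?_range (Mathieu.ptEnc j).isLt]

theorem num_trT (g : GolayPt → ℤ) : num (trT T) g = numT T g :=
  funext fun k => sum_congr rfl fun i _ => by rw [ent_trT]

theorem keeps (h : matOK T = true) {x : GolayPt → ℤ} (hx : InL x) : Keeps T x := by
  have hg : ∀ g ∈ latGens, Keeps T g := fun g hg => by
    simp only [matOK, Bool.and_eq_true, latOK, List.all_eq_true] at h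
    obtain ⟨h1, h2⟩ := h.2 g hg
    obtain ⟨a, b⟩ := imgOK_spec h.1.1 h1
    obtain ⟨c, d⟩ := imgOK_spec (by simp [sizeOK, trT]) h2
    rw [show mFun (trT T) g = mFunT T g from funext fun k => by rw [mFun, num_trT]; rfl] at d
    rw [num_trT] at c
    exact ⟨a, b, c, d⟩
  have hx' := mem_closure_latGens hx
  induction hx' using AddSubgroup.closure_induction with
  | mem y hy => exact hg y hy
  | zero =>
    have e1 : mFun T 0 = 0 := funext fun k => by simp [mFun, num]
    have e2 : mFunT T 0 = 0 := funext fun k => by simp [mFunT, numT]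
    exact ⟨fun k => by simp [num], by rw [e1]; exact lattice.zero_mem, fun k => by simp [numT],
      by rw [e2]; exact lattice.zero_mem⟩
  | add a b ha hb iha ihb =>
    have ha' : InL a := (AddSubgroup.closure_le lattice).2 (fun g hg' => by
      have := List.all_eq_true.1 latGens_ok g hg'
      rw [Bool.and_eq_true] at this
      exact inL_of_inLB this.1) ha
    have hb' : InL b := (AddSubgroup.closure_le lattice).2 (fun g hg' => by
      have := List.all_eq_true.1 latGens_ok g hg'
      rw [Bool.and_eq_true] at this
      exact inL_of_inLB this.1) hb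
    obtain ⟨a1, a2, a3, a4⟩ := iha ha'
    obtain ⟨b1, b2, b3, b4⟩ := ihb hb'
    refine ⟨fun k => ?_, ?_, fun k => ?_, ?_⟩
    · rw [num_add, Pi.add_apply]; have := a1 k; have := b1 k; omega
    · have e : mFun T (a + b) = mFun T a + mFun T b := funext fun k => by
        simp only [mFun, num_add, Pi.add_apply]; have := a1 k; omega
      exact e ▸ lattice.add_mem a2 b2
    · rw [numT_add, Pi.add_apply]; have := a3 k; have := b3 k; omega
    · have e : mFunT T (a + b) = mFunT T a + mFunT T b := funext fun k => by
        simp only [mFunT, numT_add, Pi.add_apply]; have := a3 k; omega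
      exact e ▸ lattice.add_mem a4 b4
  | neg a ha iha =>
    have ha' : InL a := (AddSubgroup.closure_le lattice).2 (fun g hg' => by
      have := List.all_eq_true.1 latGens_ok g hg'
      rw [Bool.and_eq_true] at this
      exact inL_of_inLB this.1) ha
    obtain ⟨a1, a2, a3, a4⟩ := iha ha'
    refine ⟨fun k => ?_, ?_, fun k => ?_, ?_⟩
    · rw [num_neg, Pi.neg_apply]; have := a1 k; omega
    · have e : mFun T (-a) = -mFun T a := funext fun k => by
        simp only [mFun, num_neg, Pi.neg_apply]; have := a1 k; omega
      exact e ▸ lattice.neg_mem a2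
    · rw [numT_neg, Pi.neg_apply]; have := a3 k; omega
    · have e : mFunT T (-a) = -mFunT T a := funext fun k => by
        simp only [mFunT, numT_neg, Pi.neg_apply]; have := a3 k; omega
      exact e ▸ lattice.neg_mem a4

theorem eight_mFun (h : matOK T = true) {x : GolayPt → ℤ} (hx : InL x) : num T x = 8 • mFun T x := by
  funext k
  have := (keeps h hx).1 k
  simp only [mFun, Pi.smul_apply, nsmul_eq_mul, Nat.cast_ofNat]
  omega

theorem eight_mFunT (h : matOK T = true) {x : GolayPt → ℤ} (hx : InL x) : numT T x = 8 • mFunT T x := by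
  funext k
  have := (keeps h hx).2.2.1 k
  simp only [mFunT, Pi.smul_apply, nsmul_eq_mul, Nat.cast_ofNat]
  omega

theorem num_nsmul (n : ℕ) (x : GolayPt → ℤ) : num T (n • x) = n • num T x := by
  funext k
  simp only [num, Pi.smul_apply, nsmul_eq_mul, mul_sum]
  exact sum_congr rfl fun i _ => by ring

theorem numT_nsmul (n : ℕ) (x : GolayPt → ℤ) : numT T (n • x) = n • numT T x := by
  funext k
  simp only [numT, Pi.smul_apply, nsmul_eq_mul, mul_sum]
  exact sum_congr rfl fun i _ => by ring

theorem sq_num (h : matOK T = true) (x : GolayPt → ℤ) : sqNorm (num T x) = 64 * sqNorm x := by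
  have : sqNorm (num T x) = ∑ k, x k * numT T (num T x) k := by
    simp only [sqNorm, pow_two, numT, mul_sum]
    rw [sum_comm]
    refine sum_congr rfl fun i _ => ?_
    conv_lhs => rw [num, mul_sum]
    refine sum_congr rfl fun j _ => ?_
    simp only [num]
    ring
  rw [this, numT_num h]
  simp only [sqNorm, mul_sum, Pi.smul_apply, nsmul_eq_mul]
  exact sum_congr rfl fun i _ => by push_cast; ring

theorem sqNorm_mFun (h : matOK T = true) {x : GolayPt → ℤ} (hx : InL x) :
    sqNorm (mFun T x) = sqNorm x := by
  have := sq_num h x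
  rw [eight_mFun h hx] at this
  simp only [sqNorm, Pi.smul_apply, nsmul_eq_mul, mul_pow, ← mul_sum] at this ⊢
  push_cast at this
  linarith

theorem left_inv (h : matOK T = true) {x : GolayPt → ℤ} (hx : InL x) : mFunT T (mFun T x) = x := by
  have h1 := numT_num h x
  rw [eight_mFun h hx, numT_nsmul] at h1
  funext k
  have := congrFun h1 k
  simp only [Pi.smul_apply, nsmul_eq_mul, Nat.cast_ofNat] at this
  simp only [mFunT]
  omega

theorem right_inv (h : matOK T = true) {x : GolayPt → ℤ} (hx : InL x) : mFun T (mFunT T x) = x := by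
  have h1 := num_numT h x
  rw [eight_mFunT h hx, num_nsmul] at h1
  funext k
  have := congrFun h1 k
  simp only [Pi.smul_apply, nsmul_eq_mul, Nat.cast_ofNat] at this
  simp only [mFun]
  omega

/-- The element of a checked matrix. -/
def matElt (h : matOK T = true) : Co0 :=
  mkCo0 (mFun T) (mFunT T)
    (fun x y hx hy => funext fun k => by
      have := (keeps h hx).1 k
      simp only [mFun, num_add, Pi.add_apply]
      omega)
    (fun _ hx => sqNorm_mFun h hx) (fun _ hx => (keeps h hx).2.1) (fun _ hx => (keeps h hx).2.2.2)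
    (fun _ hx => left_inv h hx) (fun _ hx => right_inv h hx)

theorem matElt_smul (h : matOK T = true) (v : leechLattice) :
    ((matElt h • v : leechLattice) : GolayPt → ℤ) = mFun T v := rfl

end Cfsg.Agent.Leech.SuzCent
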