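import Cfsg.Agent.Lib.Leech.SuzCent.Bound
import Cfsg.Agent.Lib.Presented.SuzCent

/-!
# The presented Suzuki group as a section of `Co0`

Seven elements of the centraliser of the element `a` of order three satisfy the relations of `Suz`
modulo `⟨a⟩` and the centre, and the bound on the centraliser leaves no room for more.
-/

set_option autoImplicit false
set_option maxRecDepth 20000

namespace Cfsg.Agent.Leech.SuzCent

open Cfsg
open Cfsg.Agent.Presented (wval wval_append wval_eq_prod letters relList relsOK lift_eq_wval mem_relList)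

/-- The subgroup to factor out. -/
def modM : Subgroup Co0 := Subgroup.zpowers aElt ⊔ Subgroup.center Co0

theorem zpowers_le_cenA : Subgroup.zpowers aElt ≤ cenA :=
  Subgroup.zpowers_le.2 (mem_cenA.2 rfl)

theorem modM_le : modM ≤ cenA :=
  sup_le zpowers_le_cenA (Subgroup.center_le_centralizer _)

theorem modM_commute {m g : Co0} (hm : m ∈ modM) (hg : g ∈ cenA) : m * g = g * m := by
  have h : modM ≤ Subgroup.centralizer {g} := by
    refine sup_le (Subgroup.zpowers_le.2 ?_) (Subgroup.center_le_centralizer _)
    exact Subgroup.mem_centralizer_singleton_iff.2 (mem_cenA.1 hg).symm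
  exact Subgroup.mem_centralizer_singleton_iff.1 (h hm)

instance modM_normal : (modM.subgroupOf cenA).Normal := by
  refine ⟨fun n hn g => ?_⟩
  rw [Subgroup.mem_subgroupOf] at hn ⊢
  simp only [Subgroup.coe_mul, Subgroup.coe_inv]
  rw [← modM_commute hn g.2, mul_assoc, mul_inv_cancel, mul_one]
  exact hn

theorem scal_mem (s : ℕ) : scal s ∈ modM := by
  refine mul_mem ?_ (Subgroup.mem_sup_left (pow_mem (Subgroup.mem_zpowers aElt) _))
  split
  · exact one_mem _
  · exact Subgroup.mem_sup_right negElt_mem_center

theorem six_le_modM : 6 ≤ Nat.card modM := by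
  have h3 : 3 ∣ Nat.card modM :=
    orderOf_aElt ▸ Subgroup.orderOf_dvd_natCard _ (Subgroup.mem_sup_left (Subgroup.mem_zpowers aElt))
  have hneg : orderOf negElt = 2 := by
    haveI := Fact.mk Nat.prime_two
    refine orderOf_eq_prime (co0_ext _ _ fun p => ?_) negElt_ne_one
    rw [pow_two, mul_smul, negElt_smul, negElt_smul, neg_neg, one_smul]
  have h2 : 2 ∣ Nat.card modM := hneg ▸ Subgroup.orderOf_dvd_natCard _ (Subgroup.mem_sup_right negElt_mem_center)
  exact Nat.le_of_dvd Nat.card_pos
    (Nat.Coprime.mul_dvd_of_dvd_of_dvd (m := 2) (n := 3) (by norm_num) h2 h3)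

theorem el_mem {g : ℕ} (hg : g < 7) : el g ∈ cenA := mem_cenA.2 (el_comm hg)

/-- The quotient. -/
abbrev Sec : Type := ↥cenA ⧸ modM.subgroupOf cenA

/-- The image of element number `g`. -/
def secGen (g : ℕ) : Sec :=
  if h : g < 7 then QuotientGroup.mk' _ ⟨el g, el_mem h⟩ else 1

/-- The image of element number `g`, in the centraliser. -/
def cenGen (g : ℕ) : cenA := if h : g < 7 then ⟨el g, el_mem h⟩ else 1

theorem secGen_eq (g : ℕ) : secGen g = QuotientGroup.mk' _ (cenGen g) := by
  unfold secGen cenGen; split <;> simp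

theorem wval_secGen : ∀ w : List ℕ, wval secGen w = QuotientGroup.mk' _ (wval cenGen w)
  | [] => (map_one _).symm
  | g :: w => by rw [wval, wval, map_mul, wval_secGen w, secGen_eq]

theorem wval_cenGen : ∀ w : List ℕ, (∀ g ∈ w, g < 7) → ((wval cenGen w : cenA) : Co0) = wval el w
  | [], _ => rfl
  | g :: w, h => by
    rw [wval, wval, Subgroup.coe_mul, wval_cenGen w fun x hx => h x (List.mem_cons_of_mem _ hx), cenGen,
      dif_pos (h g List.mem_cons_self)]

theorem secGen_word_eq_one {w : List ℕ} (hw : ∀ g ∈ w, g < 7) {s : ℕ}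
    (h : wordRows w idRows = scalRows s) : wval secGen w = 1 := by
  rw [wval_secGen, QuotientGroup.mk'_apply, QuotientGroup.eq_one_iff, Subgroup.mem_subgroupOf,
    wval_cenGen w hw, eq_scal_of_rows (fun g hg => (hw g hg).trans (by norm_num)) h]
  exact scal_mem s

theorem secGen_mul_self (g : ℕ) : secGen g * secGen g = 1 := by
  by_cases hg : g < 7
  · obtain ⟨s, -, hs⟩ := List.any_eq_true.1 (List.all_eq_true.1 square_check g (List.mem_range.2 hg))
    have := secGen_word_eq_one (w := [g, g]) (by simp [hg]) (beq_iff_eq.1 hs)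
    simpa [wval] using this
  · simp [secGen, hg]

theorem relW_lt : ∀ w ∈ relW, ∀ g ∈ w, g < 7 := by decide +kernel

theorem relW_one {w : List ℕ} (hw : w ∈ relW) : wval secGen w = 1 := by
  obtain ⟨i, hi, rfl⟩ := List.getElem_of_mem hw
  have hlen : relW.length = 26 := by decide +kernel
  have h := rel_rows (hlen ▸ hi : i < 26)
  rw [List.getD_eq_getElem _ _ hi] at h
  exact secGen_word_eq_one (relW_lt _ hw) h

open Cfsg.Agent.Presented.SuzIndex (gens gens_all)

theorem relW_ok : relsOK gens Spor.Suz.edges Spor.Suz.extra relW = true := by decide +kernel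

/-- The images of the generators. -/
def suzFun (x : Spor.Suz.Gen) : Sec := secGen (gens.idxOf x)

theorem suzFun_rels : ∀ r ∈ Spor.coxRelators Spor.Suz.edges ∪ {r | r ∈ Spor.Suz.extra},
    FreeGroup.lift suzFun r = 1 := by
  intro r hr
  rw [lift_eq_wval suzFun (fun x => secGen_mul_self _) gens_all secGen (fun _ => rfl)]
  have hrels := relW_ok
  simp only [relsOK, Bool.and_eq_true, List.all_eq_true, List.contains_eq_mem, decide_eq_true_eq,
    Bool.or_eq_true] at hrels
  rcases hrels.2 _ (List.mem_map.mpr ⟨r, mem_relList gens_all hr, rfl⟩) with ((h | h) | h) | h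
  · rw [List.isEmpty_iff] at h; rw [h]; rfl
  · exact relW_one h
  · have h1 := relW_one h
    rw [wval_eq_prod, List.map_reverse, List.reverse_reverse] at h1
    rw [wval_eq_prod]
    have hinv : ((letters gens r).map secGen).reverse.prod = ((letters gens r).map secGen).prod⁻¹ := by
      rw [List.prod_inv_reverse, List.map_map]
      refine congrArg List.prod (congrArg List.reverse (List.map_congr_left fun g _ => ?_))
      exact eq_inv_of_mul_eq_one_left (secGen_mul_self g)
    rw [hinv, h1, inv_one]
  · simp only [Nat.beq_eq, beq_iff_eq] at h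
    generalize letters gens r = w at *
    match w, h with
    | [a, b], h =>
      obtain rfl : a = b := by simpa using h.2
      simp [wval, secGen_mul_self a]

/-- The map from the presented group. -/
noncomputable def suzHom : Spor.Suz →* Sec := PresentedGroup.toGroup suzFun_rels

theorem secGen_zero_ne : secGen 0 ≠ 1 := by
  intro h
  rw [secGen, dif_pos (show 0 < 7 by norm_num), QuotientGroup.mk'_apply, QuotientGroup.eq_one_iff,
    Subgroup.mem_subgroupOf] at h
  have h0 : el 0 ∈ modM := h
  exact el_noncomm (modM_commute h0 (el_mem (g := 1) (by norm_num)))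

theorem suzHom_injective : Function.Injective suzHom := by
  haveI := Presented.SuzOrder.simple_suz
  rw [← MonoidHom.ker_eq_bot_iff]
  rcases suzHom.normal_ker.eq_bot_or_eq_top with h | h
  · exact h
  · exfalso
    have h0 : suzHom (PresentedGroup.of .a) = 1 :=
      MonoidHom.mem_ker.1 (by rw [h]; exact Subgroup.mem_top _)
    rw [suzHom, PresentedGroup.toGroup.of] at h0
    exact secGen_zero_ne h0

theorem suzHom_bijective : Function.Bijective suzHom := by
  haveI := Presented.SuzOrder.finite_suz
  refine suzHom_injective.bijective_of_nat_card_le ?_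
  have hM : Nat.card (modM.subgroupOf cenA) = Nat.card modM :=
    Nat.card_congr (Subgroup.subgroupOfEquivOfLe modM_le).toEquiv
  have h := Subgroup.card_eq_card_quotient_mul_card_subgroup (modM.subgroupOf cenA)
  rw [hM] at h
  have h1 := card_cenA_le
  have h6 := six_le_modM
  rw [h] at h1
  rw [Presented.SuzOrder.card_suz]
  show Nat.card (↥cenA ⧸ modM.subgroupOf cenA) ≤ _
  nlinarith

/-- The isomorphism. -/
theorem suz_equiv : Nonempty (Spor.Suz ≃* Sec) := ⟨MulEquiv.ofBijective suzHom suzHom_bijective⟩

theorem suz_noncomm : ¬ IsMulCommutative Spor.Suz := by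
  intro hc
  haveI := Presented.SuzOrder.finite_suz
  have h := Presented.SuzCent.centralizer_le
  have htop : Subgroup.centralizer ({Presented.SuzCent.zinv} : Set Spor.Suz) = ⊤ :=
    (Subgroup.eq_top_iff' _).2 fun g => Subgroup.mem_centralizer_singleton_iff.2 (hc.is_comm.comm _ _)
  rw [htop, Subgroup.card_top, Presented.SuzOrder.card_suz] at h
  omega

end Cfsg.Agent.Leech.SuzCent
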